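import Groth.Agent.EtStab.Aut
import Groth.Agent.ASt.DiagRep
import Groth.Agent.ASt.StQc
import Groth.Agent.ASp.BiratOpen
import Groth.Agent.S12969
/-!
Endomorphisms of a morphism of Deligne–Mumford stacks are determined on a dense open space.
-/

set_option autoImplicit false
set_option backward.isDefEq.respectTransparency false
set_option backward.isDefEq.respectTransparency.types false
set_option linter.unusedSectionVars false
set_option linter.style.haveILetI false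

universe u

open CategoryTheory CategoryTheory.Limits AlgebraicGeometry Opposite

namespace Groth.Agent.DMEnd

open _root_.AlgSp Groth.Agent.ASt Groth.Agent.ASp Groth.Agent.KPointChart

variable {S : Scheme.{u}}

/-- Two sections of a separated unramified morphism agreeing on a dense set are equal. -/
theorem eq_of_dense {E : Sp S} {T V : Over S} (hE : IsAlgSpace E) (π : E ⟶ (yon S).obj V)
    (hπ : LocP (@LocallyOfFiniteType ⊓ @FormallyUnramified) π) (hsep : IsSeparatedMor π)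
    (l₁ l₂ : (yon S).obj T ⟶ E) (he : l₁ ≫ π = l₂ ≫ π) (D : Set ↥T.left) (hD : Dense D)
    (hg : ∀ t ∈ D, ∃ (T' : Over S) (g : T' ⟶ T), t ∈ Set.range g.left ∧
      (yon S).map g ≫ l₁ = (yon S).map g ≫ l₂) : l₁ = l₂ := by
  have hd := repWith_diagonal_isOpenImmersion_of_unramified hE (IsAlgSpace.yon_obj V) hπ
  let m : (yon S).obj T ⟶ pullback π π := pullback.lift l₁ l₂ he
  have hsq := hd.1.isPullback m
  let j : hd.1.pullback m ⟶ T := hd.1.snd m
  haveI : IsOpenImmersion j.left := hd.2 m _ _ hsq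
  haveI : IsClosedImmersion j.left := hsep.2 m _ _ hsq
  haveI : Surjective j.left := ⟨fun t => by
    have hsub : D ⊆ Set.range j.left := fun t ht => by
      obtain ⟨T', g, ⟨p, rfl⟩, hgt⟩ := hg t ht
      obtain ⟨n, hn⟩ := (yon S).map_surjective (hsq.lift ((yon S).map g ≫ l₁) ((yon S).map g) (by
        apply pullback.hom_ext
        · simp [m]
        · simp only [Category.assoc, pullback.diagonal_snd, Category.comp_id, m, pullback.lift_snd]
          exact hgt))
      have h2 : n ≫ j = g := (yon S).map_injective (by rw [Functor.map_comp, hn, hsq.lift_snd])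
      exact ⟨n.left p, by rw [← Scheme.Hom.comp_apply, ← Over.comp_left, h2]⟩
    exact (hD.mono hsub).closure_eq.superset (Set.mem_univ t) |>
      (j.left.isClosedEmbedding.isClosed_range.closure_eq.subset ·)⟩
  haveI : IsIso j.left := (isIso_iff_isOpenImmersion_and_epi_base _).2
    ⟨inferInstance, (TopCat.epi_iff_surjective _).2 j.left.surjective⟩
  haveI : IsIso j := by
    haveI : IsIso ((Over.forget S).map j) := ‹IsIso j.left›
    exact isIso_of_reflects_iso j (Over.forget S)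
  have e := hsq.w
  have e₁ := e =≫ pullback.fst π π
  have e₂ := e =≫ pullback.snd π π
  simp only [Category.assoc, m, pullback.lift_fst, pullback.lift_snd, pullback.diagonal_fst, pullback.diagonal_snd,
    Category.comp_id] at e₁ e₂
  exact (cancel_epi ((yon S).map j)).1 (e₁.symm.trans e₂)

variable {𝒳 𝒴 : AlgSt.Cat S} [h𝒳 : FibCat.IsFibGrpd 𝒳.p] [h𝒴 : FibCat.IsFibGrpd 𝒴.p]

/-- An automorphism over a scheme is trivial when it is so on a dense set of points and the diagonal is separated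
and unramified. -/
theorem eq_refl_of_dense (hu : AlgSt.IsDMOver 𝒴)
    (hsep : AlgSt.RepByAlgSpWith IsSeparatedMor (FibCat.diag (FibCat.toSelf 𝒴)))
    {T : Over S} (y : FibCat.overCat T ⥤ᵇ 𝒴) (β : IsoG y (𝟙 T) (𝟙 T)) (D : Set ↥T.left) (hD : Dense D)
    (hg : ∀ t ∈ D, ∃ (T' : Over S) (g : T' ⟶ T), t ∈ Set.range g.left ∧
      IsoG.res g (Category.comp_id g) (Category.comp_id g) β = IsoG.refl g) : β = IsoG.refl (𝟙 T) := by
  haveI : FibCat.IsFibGrpd (FibCat.fp (FibCat.toSelf 𝒴) (FibCat.toSelf 𝒴)).p := isFibGrpd_fp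
  let w : FibCat.overCat T ⥤ᵇ FibCat.fp (FibCat.toSelf 𝒴) (FibCat.toSelf 𝒴) :=
    BasedFunctor.comp y (FibCat.diag (FibCat.toSelf 𝒴))
  obtain ⟨hs, hA, hπ⟩ := (repByAlgSpWith_iff.1 hu).2 T w
  obtain ⟨_, _, hπs⟩ := (repByAlgSpWith_iff.1 hsep).2 T w
  let E : Sp S := ⟨fib w (FibCat.diag (FibCat.toSelf 𝒴)), hs⟩
  let π : E ⟶ (yon S).obj T := ObjectProperty.homMk (fibπ w (FibCat.diag (FibCat.toSelf 𝒴)))
  let el : ∀ {T' : Over S} {k : T' ⟶ T}, IsoG y k k → ClType (FibCat.fp w (FibCat.diag (FibCat.toSelf 𝒴))) T' :=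
    fun {T' k} δ => fpEl k (y.obj (ov k)) (base_eq y k)
      (pairHom δ.hom (𝟙 _) (by rw [δ.vert, CategoryTheory.Functor.map_id, eqToHom_refl]))
      (δ.vert.trans rfl)
  have hel : ∀ {T' : Over S} {k : T' ⟶ T} (g : T' ⟶ T) (e : g ≫ 𝟙 T = k) (δ : IsoG y (𝟙 T) (𝟙 T)),
      clMap g (el δ) = el (IsoG.res g e e δ) := fun g e δ =>
    clMap_fpEl g e (y.map (ovHom g e)) (fp_hom_ext (IsoG.res_comp g e e δ).symm
      (show y.map (ovHom g e) ≫ 𝟙 _ = 𝟙 _ ≫ y.map (ovHom g e) by rw [Category.comp_id, Category.id_comp]))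
  let l₁ : (yon S).obj T ⟶ E := homOf (el β)
  let l₂ : (yon S).obj T ⟶ E := homOf (el (IsoG.refl (𝟙 T)))
  have hπl : ∀ δ : IsoG y (𝟙 T) (𝟙 T), (homOf (el δ) : (yon S).obj T ⟶ E) ≫ π = (yon S).map (𝟙 T) :=
    fun δ => KPointChart.secOf_injective (by
      rw [KPointChart.secOf_comp, secOf_homOf]
      change (⟨fpHom (el δ)⟩ : ULift _) = ⟨𝟙 _ ≫ 𝟙 T⟩
      rw [fpHom_fpEl, Category.id_comp])
  have hl : l₁ = l₂ := eq_of_dense hA π hπ hπs l₁ l₂ ((hπl _).trans (hπl _).symm) D hD fun t ht => by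
    obtain ⟨T', g, htg, hgt⟩ := hg t ht
    refine ⟨T', g, htg, KPointChart.secOf_injective ?_⟩
    rw [KPointChart.secOf_map, KPointChart.secOf_map, secOf_homOf, secOf_homOf]
    change clMap g (el β) = clMap g (el (IsoG.refl (𝟙 T)))
    rw [hel g (Category.comp_id g), hel g (Category.comp_id g), IsoG.res_refl, hgt]
  have hel' := congrArg KPointChart.secOf hl
  rw [secOf_homOf, secOf_homOf] at hel'
  obtain ⟨x, -, hx⟩ := fpEl_eq_iff.1 hel'
  have h1 : β.hom ≫ x = 𝟙 _ := congrArg (fun t => t.hom.fst) hx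
  have h2 : 𝟙 _ ≫ x = 𝟙 _ := congrArg (fun t => t.hom.snd) hx
  rw [Category.id_comp] at h2
  rw [h2, Category.comp_id] at h1
  exact IsoG.ext h1

variable {F : 𝒳 ⥤ᵇ 𝒴} (α : F ⟶ F)

theorem app_vert (o : 𝒳.obj) : 𝒴.p.map (α.toNatTrans.app o) = 𝟙 _ :=
  (map_app F F α o).trans (eqToHom_refl _ _)

/-- Being fixed passes to every object mapping to a fixed one. -/
theorem triv_of_hom {o' o : 𝒳.obj} (m : o' ⟶ o) (h : α.toNatTrans.app o = 𝟙 _) : α.toNatTrans.app o' = 𝟙 _ := by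
  refine hom_ext (F.map m) (by rw [app_vert, CategoryTheory.Functor.map_id]) ?_
  rw [Category.id_comp, ← α.toNatTrans.naturality m, h, Category.comp_id]

/-- An endomorphism is trivial on an object if it is so at a dense set of its points. -/
theorem triv_of_dense (hu : AlgSt.IsDMOver 𝒴)
    (hsep : AlgSt.RepByAlgSpWith IsSeparatedMor (FibCat.diag (FibCat.toSelf 𝒴)))
    {T : Over S} (z : FibCat.overCat T ⥤ᵇ 𝒳) (D : Set ↥T.left) (hD : Dense D)
    (hg : ∀ t ∈ D, ∃ (T' : Over S) (g : T' ⟶ T), t ∈ Set.range g.left ∧ α.toNatTrans.app (z.obj (ov g)) = 𝟙 _)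
    (g : (FibCat.overCat T).obj) : α.toNatTrans.app (z.obj g) = 𝟙 _ := by
  refine triv_of_hom α (z.map (toTop g)) ?_
  let y := BasedFunctor.comp z F
  let β : IsoG y (𝟙 T) (𝟙 T) := ⟨α.toNatTrans.app (z.obj (ov (𝟙 T))), (app_vert α _).trans (eqToHom_refl _ _).symm⟩
  refine congrArg IsoG.hom (eq_refl_of_dense hu hsep y β D hD fun t ht => ?_)
  obtain ⟨T', k, htk, hk⟩ := hg t ht
  refine ⟨T', k, htk, (IsoG.eq_res k (Category.comp_id k) (Category.comp_id k) β (IsoG.refl k) ?_).symm⟩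
  change 𝟙 _ ≫ F.map (z.map (ovHom k _)) = F.map (z.map (ovHom k _)) ≫ α.toNatTrans.app _
  rw [α.toNatTrans.naturality (z.map (ovHom k (Category.comp_id k))), hk]

/-- A point in the image of a chart of fixed objects is fixed. -/
theorem exists_triv_of_mem {T : Over S} (z : FibCat.overCat T ⥤ᵇ 𝒳) (t : ↥T.left) {q : AlgSt.FPt 𝒳}
    (hq : AlgSt.Points.mk q = AlgSt.Points.ofChart z t) (h : α.toNatTrans.app q.obj = 𝟙 _) :
    ∃ (T' : Over S) (g : T' ⟶ T), t ∈ Set.range g.left ∧ α.toNatTrans.app (z.obj (ov g)) = 𝟙 _ := by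
  obtain ⟨r, m₁, m₂, -⟩ := mk_eq_mk_iff.1 hq.symm
  have hr := triv_of_hom α m₂ h
  let g : Over.mk r.str ⟶ T := ptBase m₁ ≫ rHom T t
  refine ⟨_, g, ⟨(default : ↥(Spec (CommRingCat.of r.K))), Scheme.fromSpecResidueField_apply t _⟩, triv_of_hom α
    (facMap m₁ (z.map (ovHom (ptBase m₁) rfl : ov g ⟶ ov (rHom T t)))
      (eqToHom ((base_eq z g).trans r.lies.symm)) ?_) hr⟩
  rw [map_w]
  simp [ptBase, ov_p_map]

theorem main {𝒰 𝒱 : AlgSt.Cat S} (h𝒳' : AlgSt.IsDM Scheme.fppfPrecoverage 𝒳)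
    (h𝒴' : AlgSt.IsDM Scheme.fppfPrecoverage 𝒴)
    (hsep : AlgSt.RepByAlgSpWith IsSeparatedMor (FibCat.diag (FibCat.toSelf 𝒴)))
    (i : 𝒰 ⥤ᵇ 𝒳) (hdense : Dense (Set.range (AlgSt.Points.map i)))
    (j : 𝒱 ⥤ᵇ 𝒴) (hj : AlgSt.IsOpenImm j) (h𝒱 : AlgSt.RepByAlgSp 𝒱)
    (G : 𝒰 ⥤ᵇ 𝒱) (e : BasedFunctor.comp G j ≅ BasedFunctor.comp i F) : α = 𝟙 F := by
  haveI : FibCat.IsFibGrpd 𝒱.p := isFibGrpd_of_repByAlgSp h𝒱
  haveI : 𝒱.p.Faithful := faithful_of_repByAlgSp h𝒱
  haveI := (full_faithful_of_isMono (repByAlgSpWith_mono (fun _ _ _ _ _ h => mono_of_openImm h) hj :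
    AlgSt.IsMono j)).1
  haveI := (full_faithful_of_isMono (repByAlgSpWith_mono (fun _ _ _ _ _ h => mono_of_openImm h) hj :
    AlgSt.IsMono j)).2
  have hu : AlgSt.IsDMOver 𝒴 := by
    obtain ⟨V, b, hb, hbs⟩ := h𝒴'.2
    obtain ⟨hA, -⟩ := h𝒴'
    haveI : IsEtLocal (@LocallyOfFiniteType ⊓ @FormallyUnramified) := inferInstance
    exact repByAlgSpWith_diag_toSelf_of_fppf_chart (Q := @LocallyOfFiniteType ⊓ @FormallyUnramified)
      (fun f g h => ⟨haveI := h.1; locallyOfFiniteType_of_comp f g, haveI := h.2; FormallyUnramified.of_comp f g⟩)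
      (fun ι Y Yi g hY hYi hτ X a hX Xi p q hXi sq =>
        Groth.Agent.S10543.result S Yi g hY hYi (isFpqcCover_of_fppf hY hYi (fun i => (hτ.1 i).1)
          (fun i => (hτ.1 i).2) hτ.2) a hX Xi p q hXi sq)
      hA.diag
      (repByAlgSpWith_mono (fun _ _ _ _ hY ha U V p q r hp hq e => by
        haveI : Etale r.left := (isEtaleMor_iff_locP hY).1 ha p q r hp hq e
        infer_instance) hb)
      (repByAlgSpWith_mono (fun _ _ _ _ hY ha U V p q r hp hq e => by
        haveI : Etale r.left := (isEtaleMor_iff_locP hY).1 ha p q r hp hq e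
        infer_instance) hb)
      (isSurjective_of_repByAlgSpWith hbs)
      (repByAlgSpWith_mono (fun _ _ _ _ hY ha U V p q r hp hq e => by
        haveI : Etale r.left := (isEtaleMor_iff_locP hY).1 ha p q r hp hq e
        exact ⟨inferInstance, inferInstance⟩) hb)
  have hi : ∀ v : 𝒰.obj, α.toNatTrans.app (i.obj v) = 𝟙 _ := fun v => by
    let ev := e.hom.toNatTrans.app v
    haveI : IsIso ev := isIso_of_vert ev (map_app _ _ e.hom v)
    obtain ⟨γ, hγ⟩ := j.toFunctor.map_surjective (ev ≫ α.toNatTrans.app (i.obj v) ≫ inv ev)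
    have h0 : 𝒱.p.map γ = 𝟙 _ := by
      have h1 : 𝒴.p.map (j.map γ) = 𝟙 _ := by
        rw [hγ, Functor.map_comp, Functor.map_comp, app_vert]
        simp
        erw [Category.id_comp, IsIso.hom_inv_id]
      rw [map_w] at h1
      rw [← cancel_epi (eqToHom (j.w_obj (G.obj v))), ← cancel_mono (eqToHom (j.w_obj (G.obj v)).symm)]
      simpa using h1
    have hγ' : γ = 𝟙 _ := 𝒱.p.map_injective (h0.trans (CategoryTheory.Functor.map_id _ _).symm)
    rw [hγ', CategoryTheory.Functor.map_id] at hγ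
    have h2 := congrArg (fun t => t ≫ ev) hγ
    simp only [Category.assoc, IsIso.inv_hom_id, Category.comp_id, Category.id_comp] at h2
    refine (cancel_epi ev).1 (h2.symm.trans (Category.comp_id ev).symm)
  obtain ⟨U, a, ha, has⟩ := h𝒳'.1.atlas
  have hU : ∀ g, α.toNatTrans.app (a.obj g) = 𝟙 _ :=
    triv_of_dense α hu hsep a (AlgSt.Points.ofChart a ⁻¹' Set.range (AlgSt.Points.map i))
      (hdense.preimage (isOpenMap_ofChart_of_smooth ha)) fun t ⟨p, hp⟩ => by
        obtain ⟨q, rfl⟩ := AlgSt.Points.mk_surjective p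
        exact exists_triv_of_mem α a t (q := q.map i) hp (hi q.obj)
  apply BasedNatTrans.ext
  ext o
  let z := objFun o (rfl : 𝒳.p.obj o = _)
  have h1 : α.toNatTrans.app (z.obj (ov (𝟙 _))) = 𝟙 _ :=
    triv_of_dense α hu hsep z Set.univ dense_univ (fun t _ => by
      obtain ⟨p, hp⟩ := isSurjective_of_repByAlgSpWith has (AlgSt.Points.ofChart z t)
      obtain ⟨q, rfl⟩ := AlgSt.Points.mk_surjective p
      exact exists_triv_of_mem α z t (q := q.map a) hp (hU q.obj)) _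
  let m : o ⟶ z.obj (ov (𝟙 _)) := facMap (pullHom o rfl (𝟙 _)) (𝟙 o) (eqToHom (pull_base o rfl (𝟙 _)).symm)
    (by rw [map_pullHom, CategoryTheory.Functor.map_id]; simp)
  exact triv_of_hom α m h1

end Groth.Agent.DMEnd
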